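import Mathlib
import Cfsg.Agent.F2C.Defs
import Cfsg.Agent.F2C.BasicA
import Cfsg.Agent.F2C.BasicB
import Cfsg.Agent.F2C.Dmax
import Cfsg.Agent.F2C.L1
import Cfsg.Agent.F2C.AlphaA
import Cfsg.Agent.F2C.AlphaB
import Cfsg.Agent.F2C.Beta1
import Cfsg.Agent.F2C.Beta2
import Cfsg.Agent.HKS.Basic

set_option autoImplicit false
set_option linter.unusedSectionVars false
open Cfsg

namespace Cfsg.Agent.F2C

variable {G : Type*} [Group G] [Finite G]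

theorem Core.type_or {p q : ℕ} {x : G} (h : Core p x) (hq : q.Prime) (hqp : q ≠ p) :
    TypeU q x ∨ TypeF q x := by
  by_cases hZ : Oq q (Ce x) = ⊥
  · by_cases hp : p = 2
    · subst hp
      exact Or.inl (h.beta2 hq hqp hZ)
    · exact Or.inr (h.beta1 hq hqp hp hZ)
  · exact Or.inl (h.alpha hq hqp hZ)

theorem TI_sub {p q : ℕ} {x : G} (h : Core p x) (hq : q.Prime) (hqp : q ≠ p) (hF : TypeF q x)
    {Q R : Subgroup G} (hQ : DQ q x Q) (hle : R ≤ Q) (hx : x ∈ Nm R) : DQ q x R :=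
  dq_of_fpf h.prime hq hqp h.ord ⟨hQ.1.to_le hle, hx⟩
    (le_bot_iff.1 ((inf_le_inf_right _ hle).trans (hF Q hQ).le))

theorem TI_nil {q : ℕ} (hq : q.Prime) {R : Subgroup G} (hR : IsPGroup q R) :
    Group.IsNilpotent R := by
  have := Fact.mk hq
  exact hR.isNilpotent

theorem TI_bot (q : ℕ) (x : G) : DQ q x (⊥ : Subgroup G) := by
  refine ⟨IsPGroup.of_bot, ?_, Subgroup.commutator_bot_left _⟩
  rw [Subgroup.mem_normalizer_iff]
  intro a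
  simp only [Subgroup.mem_bot]
  constructor
  · rintro rfl
    simp
  · intro ha
    have : a = x⁻¹ * (x * a * x⁻¹) * x := by group
    rw [this, ha]
    simp

theorem TI_max_eq {p q : ℕ} {x : G} (h : Core p x) (hq : q.Prime) (hqp : q ≠ p) (hF : TypeF q x)
    (J : Subgroup G) : J ≠ ⊥ → ∀ Q₁ Q₂ : Subgroup G, Maximal (DQ q x) Q₁ → Maximal (DQ q x) Q₂ →
      Q₁ ⊓ Q₂ = J → Q₁ = Q₂ := by
  induction J using WellFoundedGT.induction with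
  | ind J ih =>
    intro hJ Q₁ Q₂ h1 h2 he
    by_contra hne
    have l1 : J < Q₁ := by
      refine lt_of_le_of_ne (he ▸ inf_le_left) fun e => hne ?_
      have : Q₁ ≤ Q₂ := by rw [← e, ← he]; exact inf_le_right
      exact le_antisymm this (h1.2 h2.1 this)
    have l2 : J < Q₂ := by
      refine lt_of_le_of_ne (he ▸ inf_le_right) fun e => hne ?_
      have : Q₂ ≤ Q₁ := by rw [← e, ← he]; exact inf_le_left
      exact le_antisymm (h2.2 h1.1 this) this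
    have hxJ : x ∈ Nm J := he ▸ AlphaA_inf h1.1.2.1 h2.1.2.1
    have hN : Nm J ≠ ⊤ := h.nm_ne_top (TI_nil hq (h1.1.1.to_le l1.le)) hJ
    obtain ⟨hW, -, -, hW', -⟩ := h.dq_spec hq hqp hN hxJ
    obtain ⟨Q₃, h3, hle⟩ := exists_max_ge (DQ q x) hW
    have key : ∀ Q : Subgroup G, Maximal (DQ q x) Q → J < Q → Q = Q₃ := by
      intro Q hQ l
      have k1 : J < Q ⊓ Nm J := AlphaA_lt hq hQ.1.1 l
      have k2 : DQ q x (Q ⊓ Nm J) :=
        TI_sub h hq hqp hF hQ.1 inf_le_left (AlphaA_inf hQ.1.2.1 (Subgroup.le_normalizer hxJ))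
      have k3 : Q ⊓ Nm J ≤ Q ⊓ Q₃ := le_inf inf_le_left ((hW' _ k2 inf_le_right).trans hle)
      have k4 : J < Q ⊓ Q₃ := lt_of_lt_of_le k1 k3
      exact ih _ k4 (fun e => not_lt_bot (e ▸ k4)) Q Q₃ hQ h3 rfl
    exact hne ((key _ h1 l1).trans (key _ h2 l2).symm)

theorem Core.ti {p q : ℕ} {x : G} (h : Core p x) (hq : q.Prime) (hqp : q ≠ p)
    {Q Y : Subgroup G} (hQ : Maximal (DQ q x) Q) (hY : DQ q x Y) (hne : Y ⊓ Q ≠ ⊥) : Y ≤ Q := by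
  rcases h.type_or hq hqp with ⟨Q₀, h0, hall⟩ | hF
  · exact (hall Y hY).trans (hQ.2 h0 (hall Q hQ.1))
  · obtain ⟨Q', h', hle⟩ := exists_max_ge (DQ q x) hY
    have : Q' = Q := TI_max_eq h hq hqp hF (Q' ⊓ Q)
      (fun e => hne (le_bot_iff.1 ((inf_le_inf_right _ hle).trans e.le))) Q' Q h' hQ rfl
    exact this ▸ hle

theorem Core.ce_le_nm {p q : ℕ} {x : G} (h : Core p x) (hq : q.Prime) (hqp : q ≠ p)
    {Q : Subgroup G} (hQ : Maximal (DQ q x) Q) : Ce x ≤ Nm Q := by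
  intro c hc
  have hcx : c * x * c⁻¹ = x := by rw [AlphaA_comm hc, mul_inv_cancel_right]
  have hc' : Maximal (DQ q x) (cj c Q) := by
    have := maxq_conj hQ c
    rwa [hcx] at this
  suffices e : cj c Q = Q from Subgroup.mem_normalizer_iff_map_conj_eq.2 e
  rcases h.type_or hq hqp with ⟨Q₀, h0, hall⟩ | hF
  · have e1 : Q = Q₀ := le_antisymm (hall Q hQ.1) (hQ.2 h0 (hall Q hQ.1))
    have e2 : cj c Q = Q₀ := le_antisymm (hall _ hc'.1) (hc'.2 h0 (hall _ hc'.1))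
    exact e2.trans e1.symm
  · by_cases hb : Q = ⊥
    · subst hb
      exact Subgroup.map_bot _
    obtain ⟨⟨d, hd⟩, hd1⟩ := (Subgroup.ne_bot_iff_exists_ne_one).1 hb
    have hd1' : d ≠ 1 := fun e => hd1 (Subtype.ext e)
    obtain ⟨I, hI, hIQ, k, hk, c₀, hc₀, e, hH⟩ := h.l1 (hQ.1.dd h.prime hq hqp) hd
    have hc1 : c₀ = 1 := by
      rw [hF Q hQ.1] at hc₀
      exact Subgroup.mem_bot.1 hc₀
    rw [hc1, mul_one] at e
    subst e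
    obtain ⟨H, hH1, hxH, hIH, hcH⟩ := hH c hc
    obtain ⟨hV, -, -, hV', -⟩ := h.dq_spec hq hqp hH1 hxH
    have hIq : DQ q x I := ⟨hQ.1.1.to_le hIQ, hI.2.2.1, hI.2.2.2⟩
    have hdV : d ∈ Dq q x H := hV' I hIq hIH hk
    have hVQ : Dq q x H ≤ Q := h.ti hq hqp hQ hV fun e =>
      hd1' (Subgroup.mem_bot.1 (e ▸ (⟨hdV, hd⟩ : d ∈ Dq q x H ⊓ Q)))
    have hcV : c ∈ Nm (Dq q x H) := (norm_parts p q hc (Subgroup.le_normalizer hcH)).2.1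
    have m1 : c * d * c⁻¹ ∈ Q := hVQ (Dmax_aux_nm hcV hdV)
    have m2 : c * d * c⁻¹ ∈ cj c Q := ⟨d, hd, by simp⟩
    have hle : cj c Q ≤ Q := h.ti hq hqp hQ hc'.1 fun e => by
      have : c * d * c⁻¹ = 1 := Subgroup.mem_bot.1 (e ▸ (⟨m2, m1⟩ : _ ∈ cj c Q ⊓ Q))
      apply hd1'
      have e2 : d = c⁻¹ * (c * d * c⁻¹) * c := by group
      rw [e2, this]
      simp
    exact le_antisymm hle (hc'.2 hQ.1 hle)

theorem TI_fix {q : ℕ} (hq : q.Prime) {Q R : Subgroup G} (hQ : IsPGroup q Q) (hR : IsPGroup q R)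
    {c : G} (hc : c ∈ R) (hn : c ∈ Nm Q) (hne : Q ≠ ⊥) : Q ⊓ Ce c ≠ ⊥ := by
  have h1 : IsPGroup q (Subgroup.zpowers c) := hR.to_le (Subgroup.zpowers_le.2 hc)
  have h2 : Subgroup.zpowers c ≤ Nm Q := Subgroup.zpowers_le.2 hn
  have h3 : IsPGroup q (Subgroup.zpowers c ⊔ Q : Subgroup G) := h1.to_sup_of_normal_right' hQ h2
  have h4 : (Subgroup.zpowers c ⊔ Q : Subgroup G) ≤ Nm Q := sup_le h2 Subgroup.le_normalizer
  obtain ⟨a, ha, ha1, hcm⟩ := HKS.nil_cen (TI_nil hq h3) le_sup_right hne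
    (fun u hu a ha => Dmax_aux_nm (h4 hu) ha)
  have h5 : a ∈ Ce c := Subgroup.mem_centralizer_singleton_iff.2
    (hcm c (Subgroup.mem_sup_left (Subgroup.mem_zpowers c))).eq
  exact fun e => ha1 (Subgroup.mem_bot.1 (e ▸ (⟨ha, h5⟩ : a ∈ Q ⊓ Ce c)))

theorem Core.fpf_of_not_unique {p q : ℕ} {x : G} (h : Core p x) (hq : q.Prime) (hqp : q ≠ p)
    (hU : ¬ TypeU q x) {R : Subgroup G} (hR : IsPGroup q R) : R ⊓ Ce x = ⊥ := by
  have hF : TypeF q x := (h.type_or hq hqp).resolve_left hU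
  obtain ⟨Q₁, h1, -⟩ := exists_max_ge (DQ q x) (TI_bot q x)
  obtain ⟨Q', hQ', hn⟩ : ∃ Q', DQ q x Q' ∧ ¬ Q' ≤ Q₁ := by
    by_contra hcon
    refine hU ⟨Q₁, h1.1, fun Q' hQ' => ?_⟩
    by_contra hh
    exact hcon ⟨Q', hQ', hh⟩
  obtain ⟨Q₂, h2, hle⟩ := exists_max_ge (DQ q x) hQ'
  have hn2 : ¬ Q₂ ≤ Q₁ := fun e => hn (hle.trans e)
  have b2 : Q₂ ≠ ⊥ := fun e => hn2 (e ▸ bot_le)
  have b1 : Q₁ ≠ ⊥ := fun e => hn2 (h1.2 h2.1 (e ▸ bot_le))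
  rw [eq_bot_iff]
  rintro c ⟨hcR, hc⟩
  rw [Subgroup.mem_bot]
  by_contra hc1
  have hxc : x ∈ Ce c := Subgroup.mem_centralizer_singleton_iff.2 (AlphaA_comm hc).symm
  obtain ⟨hY, -, -, hY', -⟩ := h.dq_spec hq hqp (h.ce_ne_top hc1) hxc
  have key : ∀ Q : Subgroup G, Maximal (DQ q x) Q → Q ≠ ⊥ →
      Dq q x (Ce c) ≤ Q ∧ Dq q x (Ce c) ≠ ⊥ := by
    intro Q hQ hb
    have k1 : Q ⊓ Ce c ≠ ⊥ := TI_fix hq hQ.1.1 hR hcR (h.ce_le_nm hq hqp hQ hc) hb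
    have k2 : DQ q x (Q ⊓ Ce c) :=
      TI_sub h hq hqp hF hQ.1 inf_le_left (AlphaA_inf hQ.1.2.1 (Subgroup.le_normalizer hxc))
    have k3 : Q ⊓ Ce c ≤ Dq q x (Ce c) := hY' _ k2 inf_le_right
    exact ⟨h.ti hq hqp hQ hY fun e => k1 (le_bot_iff.1 ((le_inf k3 inf_le_left).trans e.le)),
      fun e => k1 (le_bot_iff.1 (k3.trans e.le))⟩
  obtain ⟨a1, a2⟩ := key Q₁ h1 b1
  obtain ⟨a3, -⟩ := key Q₂ h2 b2
  exact hn2 (h.ti hq hqp h1 h2.1 fun e => a2 (le_bot_iff.1 ((le_inf a3 a1).trans e.le)))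

/-- in type F a nontrivial `q`-part of a maximal member of `𝒟(x)` is full -/
theorem Core.full_of_typeF {p q : ℕ} {x : G} (h : Core p x) (hq : q.Prime) (hqp : q ≠ p)
    (hF : TypeF q x) {D : Subgroup G} (hD : Maximal (DD p x) D) (hne : Dq q x D ≠ ⊥) :
    Maximal (DQ q x) (Dq q x D) := by
  obtain ⟨d1, -, d3, -⟩ := dd_parts h.prime hq h.ord hD.1
  refine ⟨d1, fun S hS hle => ?_⟩
  by_contra hcon
  have l : Dq q x D < S := lt_of_le_of_ne hle fun e => hcon e.ge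
  have k1 : Dq q x D < S ⊓ Nm (Dq q x D) := AlphaA_lt hq hS.1 l
  have hxJ : x ∈ Nm (Dq q x D) := d1.2.1
  have k2 : DQ q x (S ⊓ Nm (Dq q x D)) :=
    TI_sub h hq hqp hF hS inf_le_left (AlphaA_inf hS.2.1 (Subgroup.le_normalizer hxJ))
  obtain ⟨m1, -, m3, -⟩ := h.dmax_spec (h.nm_ne_top (TI_nil hq d1.1) hne) hxJ
  have k3 : S ⊓ Nm (Dq q x D) ≤ D :=
    (m3 _ (k2.dd h.prime hq hqp) inf_le_right).trans (hD.2 m1 (m3 D hD.1 d3))
  have k4 : S ⊓ Nm (Dq q x D) ≤ Dq q x D := le_sSup ⟨k3, k2⟩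
  exact absurd k4 (not_le_of_gt k1)

end Cfsg.Agent.F2C
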