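import Mathlib
import Cfsg.Agent.F2C.Defs
import Cfsg.Agent.F2C.BasicA
import Cfsg.Agent.F2C.BasicB
import Cfsg.Agent.F2C.Dmax
import Cfsg.Agent.F2C.Zip
import Cfsg.Agent.F2C.L5
import Cfsg.Agent.F2C.TI

set_option autoImplicit false
open Cfsg

namespace Cfsg.Agent.F2C

variable {G : Type*} [Group G] [Finite G]

omit [Finite G] in
theorem L6a_nm {H : Subgroup G} {g : G} : g ∈ Nm H ↔ cj g H = H := by
  have k : ∀ y, g * y * g⁻¹ ∈ cj g H ↔ y ∈ H := fun y =>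
    Subgroup.mem_map_iff_mem (f := (MulAut.conj g).toMonoidHom) (MulAut.conj g).injective
  rw [Subgroup.mem_normalizer_iff]
  refine ⟨fun e => Subgroup.ext fun y => ?_, fun e y => ?_⟩
  · have k1 := k (g⁻¹ * y * g)
    have k2 := e (g⁻¹ * y * g)
    rw [show g * (g⁻¹ * y * g) * g⁻¹ = y by group] at k1 k2
    exact k1.trans k2
  · have := k y
    rw [e] at this
    exact this.symm

omit [Finite G] in
theorem L6a_comm {H : Subgroup G} {v : G} (e : ∀ r ∈ H, Commute v r) : v ∈ Nm H :=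
  Subgroup.centralizer_le_normalizer _ (Subgroup.mem_centralizer_iff.2 fun r hr => (e r hr).symm.eq)

theorem Core.line_eq {p q : ℕ} {x a : G} (h : Core p x) (ha : Core p a) (hq : q.Prime) (hqp : q ≠ p)
    {M M' : Subgroup G} (hM : Line q x M) (hM' : Line q a M') (haM : a ∈ M) (hxM : x ∈ M')
    (hO : Oq q M ≤ M') : M = M' := by
  have := Fact.mk hq
  obtain ⟨xM, mQ, -, nQ, mD, uD, -⟩ := h.line_spec hq hqp hM
  obtain ⟨aM', -, -, nQ', -⟩ := ha.line_spec hq hqp hM'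
  obtain ⟨-, b2, -, -, b5, -⟩ := h.dq_spec hq hqp hM.1.1 xM
  obtain ⟨c1, -, c3, c4, -⟩ := h.dq_spec hq hqp hM'.1.1 hxM
  obtain ⟨d1, d2, -⟩ := ha.dq_spec hq hqp hM'.1.1 aM'
  obtain ⟨-, e2, -, e4, -⟩ := ha.dq_spec hq hqp hM.1.1 haM
  obtain ⟨-, o2, o3⟩ := oq_spec q M'
  have k1 : Dq q x M ≤ Dq q x M' := c4 _ mQ.prop (b2.trans hO)
  have k2 : Dq q x M' = Dq q x M := le_antisymm (mQ.le_of_ge c1 k1) k1
  have k3 : Oq q M' ≤ M := by
    have := (coprime_decomp h.prime h.ord (BasicA_cop h.prime hq hqp o3) (o2 hxM)).2.1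
    rw [← c3, k2] at this
    exact this.trans nQ
  have k4 : Dq q a M' ≤ Oq q M := (e4 _ d1 (d2.trans k3)).trans e2
  obtain ⟨-, -, -, -, f5, f6, f7, -, -, -, f11⟩ := dd_parts (q := q) h.prime hq h.ord mD.prop
  refine (uD M' hM'.1 (fun d hd => ?_) hxM).symm
  obtain ⟨u, hu, v, hv, rfl⟩ := f11 d hd
  rw [← b5] at hu
  exact mul_mem (nQ' (L6a_comm fun r hr => h.comm_oq hq hM.1.1 xM f5
    (f7.trans (h.dmax_spec hM.1.1 xM).2.1) f6 v hv r (k4 hr))) (hO (b2 hu))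

theorem Core.lines_sub {p q : ℕ} {x a : G} (h : Core p x) (ha : Core p a) (hq : q.Prime)
    (hqp : q ≠ p) (hex : ∃ M', Line q a M') (h1 : ∀ M, Line q x M → a ∈ M)
    (h2 : ∀ M', Line q a M' → x ∈ M') {M : Subgroup G} (hM : Line q x M) : Line q a M := by
  have := Fact.mk hq
  have aM := h1 M hM
  obtain ⟨e1, -, e3, -⟩ := ha.dq_spec hq hqp hM.1.1 aM
  obtain ⟨Q, mQ, ne, hY⟩ : ∃ Q, Maximal (DQ q a) Q ∧ Q ≠ ⊥ ∧ Dq q a M ≤ Q := by
    by_cases c : Dq q a M = ⊥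
    · obtain ⟨_, -, Q, mQ, ne, -⟩ := hex
      exact ⟨Q, mQ, ne, c ▸ bot_le⟩
    · obtain ⟨Q, mQ, le⟩ := exists_max_ge (DQ q a) e1
      exact ⟨Q, mQ, fun k => c (le_bot_iff.1 (k ▸ le)), le⟩
  obtain ⟨M', hM', nQ⟩ := ha.exists_line hq hqp mQ ne
  obtain ⟨-, o2, o3⟩ := oq_spec q M
  have hO : Oq q M ≤ M' := fun r hr => by
    obtain ⟨d, hd, c, hc, rfl⟩ :=
      (coprime_decomp ha.prime ha.ord (BasicA_cop ha.prime hq hqp o3) (o2 aM)).2.2.2.2 r hr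
    rw [← e3] at hd
    exact nQ (mul_mem (Subgroup.le_normalizer (hY hd)) (ha.ce_le_nm hq hqp mQ hc.2))
  rw [h.line_eq ha hq hqp hM hM' aM (h2 M' hM') hO]
  exact hM'

theorem Core.f3 {p q : ℕ} {x g : G} (h : Core p x) (hq : q.Prime) (hqp : q ≠ p) {M : Subgroup G}
    (hM : Line q x M) (hM' : Line q (g * x * g⁻¹) M)
    (hne : ¬ (Nat.card (Subgroup.closure ({x, g * x * g⁻¹} : Set G))).Coprime q) : g ∈ M := by
  have := Fact.mk hq
  have ha := h.conj g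
  obtain ⟨xM, mQ, -⟩ := h.line_spec hq hqp hM
  obtain ⟨aM, mA, -, -, -, -, uA⟩ := ha.line_spec hq hqp hM'
  obtain ⟨-, mB, -, nB, -⟩ := ha.line_spec hq hqp (line_conj hM g)
  have x0 : x ∈ Subgroup.closure ({x, g} : Set G) := Subgroup.subset_closure (.inl rfl)
  have g0 : g ∈ Subgroup.closure ({x, g} : Set G) := Subgroup.subset_closure (.inr rfl)
  have a0 := mul_mem (mul_mem g0 x0) (inv_mem g0)
  have x1 : x ∈ Subgroup.closure ({x, g * x * g⁻¹} : Set G) := Subgroup.subset_closure (.inl rfl)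
  have a1 : g * x * g⁻¹ ∈ Subgroup.closure ({x, g * x * g⁻¹} : Set G) := Subgroup.subset_closure (.inr rfl)
  have le : ∀ K : Subgroup G, x ∈ K → g * x * g⁻¹ ∈ K → Oq q (Subgroup.closure ({x, g * x * g⁻¹} : Set G)) ≤ K :=
    fun K k1 k2 => (oq_spec q _).1.trans ((Subgroup.closure_le _).2 (by rintro _ (rfl | rfl); exacts [k1, k2]))
  have n1 := mt (h.coprime_of_dq_bot ha hq hqp) hne
  have n2 := mt (ha.coprime_of_dq_bot h hq hqp) (by rwa [Set.pair_comm])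
  rw [Set.pair_comm] at n2
  obtain ⟨b1, b2, -⟩ := h.dq_spec hq hqp (h.two _) x1
  obtain ⟨c1, c2, -⟩ := ha.dq_spec hq hqp (h.two _) a1
  obtain ⟨d1, -, -, d4, -⟩ := h.dq_spec hq hqp (h.two g) x0
  obtain ⟨-, -, -, e4, -⟩ := ha.dq_spec hq hqp (h.two g) a0
  have k1 := h.ti hq hqp mQ d1 fun c => n1 (le_bot_iff.1 (c ▸ le_inf (d4 _ b1 (b2.trans (le _ x0 a0)))
    ((h.dq_spec hq hqp hM.1.1 xM).2.2.2.1 _ b1 (b2.trans (le _ xM aM)))))
  have k2 : Dq q (g * x * g⁻¹) (Subgroup.closure ({x, g} : Set G)) ≤ Dq q (g * x * g⁻¹) (cj g M) := by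
    rw [← L6a_nm.1 (Subgroup.le_normalizer g0), dq_part_conj, dq_part_conj]
    exact Subgroup.map_mono k1
  have k3 := ha.ti hq hqp mA mB.prop fun c => n2 (le_bot_iff.1 (c ▸ le_inf
    ((e4 _ c1 (c2.trans (le _ x0 a0))).trans k2)
    ((ha.dq_spec hq hqp hM.1.1 aM).2.2.2.1 _ c1 (c2.trans (le _ xM aM)))))
  rw [le_antisymm k3 (mB.le_of_ge mA.prop k3)] at nB
  rw [← h.nm_coatom hM.1 xM]
  exact L6a_nm.2 (uA _ (line_conj hM g).1 nB)

end Cfsg.Agent.F2C
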