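import Cfsg.Agent.F2C.Defs
import Cfsg.Agent.F2C.BasicA
import Cfsg.Agent.F2C.BasicB
import Cfsg.Agent.F2C.Dmax
import Cfsg.Agent.F2C.Zip
import Cfsg.Agent.F2C.TI
import Cfsg.Agent.F2C.L6a
import Cfsg.Agent.GT.SchurZassenhaus
import Cfsg.Agent.GT.PGroupBasic

set_option autoImplicit false
set_option linter.unusedSectionVars false
open Cfsg
open scoped Pointwise

namespace Cfsg.Agent.F2C

variable {G : Type*} [Group G] [Finite G]

theorem L6b_aux_cj {g : G} {M : Subgroup G} : g ∈ Nm M ↔ cj g M = M :=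
  Subgroup.mem_normalizer_iff_map_conj_eq

theorem L6b_aux_mem {g y : G} {M : Subgroup G} (hy : g * y * g⁻¹ ∈ cj g M) : y ∈ M := by
  obtain ⟨z, hz, e⟩ := hy
  have e' : g * z * g⁻¹ = g * y * g⁻¹ := e
  have : z = y := by simpa using e'
  exact this ▸ hz

theorem Core.mem_of_lines_eq {p q : ℕ} {x g : G} (h : Core p x) (hq : q.Prime) (hqp : q ≠ p)
    (he : ∀ M, Line q x M ↔ Line q (g * x * g⁻¹) M) {M : Subgroup G} (hM : Line q x M) :
    g ∈ M := by
  have : Fact q.Prime := ⟨hq⟩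
  have ha : Core p (g * x * g⁻¹) := h.conj g
  have hMa : Line q (g * x * g⁻¹) M := (he M).1 hM
  obtain ⟨hxM, hmax, -, -, -, -, huniq⟩ := h.line_spec hq hqp hM
  by_cases hU : TypeU q x
  · obtain ⟨Q, hQ, hall⟩ := hU
    have hQe : ∀ M', Line q x M' → Dq q x M' = Q := by
      intro M' hM'
      have hm := (h.line_spec hq hqp hM').2.1
      exact le_antisymm (hall _ hm.prop) (hm.le_of_ge hQ (hall _ hm.prop))
    have hc : Line q x (cj g M) := (he _).2 (line_conj hM g)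
    have h1 : Nm (Dq q x M) ≤ cj g M := by
      rw [hQe M hM, ← hQe _ hc]
      exact (h.line_spec hq hqp hc).2.2.2.1
    have h2 := huniq _ hc.1 h1
    rw [← h.nm_coatom hM.1 hxM]
    exact L6b_aux_cj.2 h2
  · by_contra hg
    obtain ⟨hRM, hMR, hRq⟩ := oq_spec q M
    set R := Oq q M with hRdef
    have hfpf : R ⊓ Ce x = ⊥ := h.fpf_of_not_unique hq hqp hU hRq
    obtain ⟨haM, -, hne, -⟩ := ha.line_spec hq hqp hMa
    set a := g * x * g⁻¹ with hadef
    have hcop : ∀ r ∈ R, (Nat.card (Subgroup.closure ({x, r * a * r⁻¹} : Set G))).Coprime q := by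
      intro r hr
      by_contra hnc
      have e : r * a * r⁻¹ = (r * g) * x * (r * g)⁻¹ := by rw [hadef]; group
      have hl : Line q (r * a * r⁻¹) (cj r M) := line_conj hMa r
      rw [L6b_aux_cj.1 (Subgroup.le_normalizer (hRM hr)), e] at hl
      rw [e] at hnc
      have := h.f3 hq hqp hM hl hnc
      exact hg ((M.mul_mem_cancel_left (hRM hr)).1 this)
    have hcop' : ∀ A : Subgroup G, (Nat.card A).Coprime q → (Nat.card R).Coprime (Nat.card A) := by
      intro A hA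
      obtain ⟨n, hn⟩ := hRq.exists_card_eq
      rw [hn]
      exact (Nat.Coprime.pow_left n hA.symm)
    set A := Subgroup.closure ({x, a} : Set G) with hAdef
    have hA : (Nat.card A).Coprime q := by
      have := hcop 1 R.one_mem
      rwa [one_mul, inv_one, mul_one] at this
    have hxA : x ∈ A := Subgroup.subset_closure (by simp)
    have haA : a ∈ A := Subgroup.subset_closure (by simp)
    have hAM : A ≤ M := by
      rw [hAdef, Subgroup.closure_le]
      rintro y (rfl | rfl)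
      · exact hxM
      · exact haM
    have hbot : ∀ y ∈ R, y ∈ A → y = 1 := by
      intro y hy hy'
      have := disjoint_iff.1 (Subgroup.disjoint_of_coprime_natCard (hcop' A hA))
      exact Subgroup.mem_bot.1 (this ▸ (⟨hy, hy'⟩ : y ∈ R ⊓ A))
    have hnil : Group.IsNilpotent R := hRq.isNilpotent
    have hcm : ∀ r ∈ R, ∀ y ∈ M, r * y * r⁻¹ * y⁻¹ ∈ R := by
      intro r hr y hy
      have h1 : y * r⁻¹ * y⁻¹ ∈ R := (Subgroup.mem_normalizer_iff.1 (hMR hy) _).1 (R.inv_mem hr)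
      have := R.mul_mem hr h1
      simpa [mul_assoc] using this
    have hcomm : ∀ r ∈ R, r * a * r⁻¹ * a⁻¹ = 1 := by
      intro r hr
      have hle : Subgroup.closure ({x, r * a * r⁻¹} : Set G) ≤ R ⊔ A := by
        rw [Subgroup.closure_le]
        rintro y (rfl | rfl)
        · exact Subgroup.mem_sup_right hxA
        · exact Subgroup.mul_mem _ (Subgroup.mul_mem _ (Subgroup.mem_sup_left hr) (Subgroup.mem_sup_right haA))
            (Subgroup.mem_sup_left (R.inv_mem hr))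
      obtain ⟨k, hk, hkA⟩ := GT.conj_le_of_coprime_le_sup R A _ (hAM.trans hMR) (hcop' A hA) (hcop' _ (hcop r hr))
        hle (Or.inl inferInstance)
      have h1 : k * x * k⁻¹ ∈ A := hkA (GT.HT.conj_mem_conj_smul k (Subgroup.subset_closure (by simp)))
      have h2 : k * (r * a * r⁻¹) * k⁻¹ ∈ A := hkA (GT.HT.conj_mem_conj_smul k (Subgroup.subset_closure (by simp)))
      have h3 := hbot _ (hcm k hk x hxM) (A.mul_mem h1 (A.inv_mem hxA))
      have h4 : k ∈ Ce x := by
        rw [Subgroup.mem_centralizer_singleton_iff]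
        have : k * x = k * x * k⁻¹ * x⁻¹ * (x * k) := by group
        rw [this, h3, one_mul]
      have h5 : k = 1 := Subgroup.mem_bot.1 (hfpf ▸ (⟨hk, h4⟩ : k ∈ R ⊓ Ce x))
      rw [h5, one_mul, inv_one, mul_one] at h2
      exact hbot _ (hcm r hr a haM) (A.mul_mem h2 (A.inv_mem haA))
    apply hne
    rw [(ha.dq_spec hq hqp hM.1.1 haM).2.2.1, Subgroup.commutator_comm, Subgroup.commutator_eq_bot_iff_le_centralizer,
      Subgroup.zpowers_le, Subgroup.mem_centralizer_iff]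
    intro r hr
    have : r * a = r * a * r⁻¹ * a⁻¹ * (a * r) := by group
    rw [this, hcomm r hr, one_mul]

theorem L6b_aux_key {p q : ℕ} {x g : G} (h : Core p x) (hq : q.Prime) (hqp : q ≠ p)
    (h1 : ∀ M, Line q x M → g * x * g⁻¹ ∈ M) (h2 : ∀ M, Line q (g * x * g⁻¹) M → x ∈ M) {M : Subgroup G}
    (hM : Line q x M) : g ∈ M :=
  h.mem_of_lines_eq hq hqp (fun _ => ⟨fun hM' => h.lines_sub (h.conj g) hq hqp ⟨_, line_conj hM g⟩ h1 h2 hM',
    fun hM' => (h.conj g).lines_sub h hq hqp ⟨_, hM⟩ h2 h1 hM'⟩) hM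

theorem Core.pgroup_le_line {p q : ℕ} {x : G} (h : Core p x) (hq : q.Prime) (hqp : q ≠ p)
    {P : Subgroup G} (hP : IsPGroup p P) (hx : x ∈ P) {M : Subgroup G} (hM : Line q x M) :
    P ≤ M := by
  have : Fact p.Prime := ⟨h.prime⟩
  have hnil : Group.IsNilpotent P := hP.isNilpotent
  set L : Subgroup G := sInf {M | Line q x M} with hL
  have hxL : x ∈ P ⊓ L := ⟨hx, Subgroup.mem_sInf.2 fun M' hM' => (h.line_spec hq hqp hM').1⟩
  by_contra hcon
  have hlt : P ⊓ L < P := by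
    refine lt_of_le_of_ne inf_le_left fun e => hcon ?_
    rw [← e]
    exact inf_le_right.trans (sInf_le hM)
  obtain ⟨g, hgP, hgn, hgN⟩ := GT.PG.exists_mem_normalizer_notMem hlt
  have h1 : g * x * g⁻¹ ∈ P ⊓ L := (Subgroup.mem_normalizer_iff.1 hgN x).1 hxL
  have h2 : g⁻¹ * x * g⁻¹⁻¹ ∈ P ⊓ L := (Subgroup.mem_normalizer_iff.1 (Subgroup.inv_mem _ hgN) x).1 hxL
  refine hgn ⟨hgP, Subgroup.mem_sInf.2 fun M' hM' => L6b_aux_key h hq hqp
    (fun M₁ hM₁ => Subgroup.mem_sInf.1 h1.2 M₁ hM₁) (fun M₁ hM₁ => ?_) hM'⟩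
  have h3 := line_conj hM₁ g⁻¹
  have e : g⁻¹ * (g * x * g⁻¹) * g⁻¹⁻¹ = x := by group
  rw [e] at h3
  exact L6b_aux_mem (Subgroup.mem_sInf.1 h2.2 _ h3)

theorem Core.mem_line_of_pgroup {p q : ℕ} {x β : G} (h : Core p x) (hq : q.Prime) (hqp : q ≠ p)
    (hP : IsPGroup p (Subgroup.closure ({x, β * x * β⁻¹} : Set G))) {M : Subgroup G}
    (hM : Line q x M) : β ∈ M := by
  have hx : x ∈ Subgroup.closure ({x, β * x * β⁻¹} : Set G) := Subgroup.subset_closure (by simp)
  have ha : β * x * β⁻¹ ∈ Subgroup.closure ({x, β * x * β⁻¹} : Set G) := Subgroup.subset_closure (by simp)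
  exact L6b_aux_key h hq hqp (fun M₁ hM₁ => h.pgroup_le_line hq hqp hP hx hM₁ ha)
    (fun M₁ hM₁ => (h.conj β).pgroup_le_line hq hqp hP ha hM₁ hx) hM

end Cfsg.Agent.F2C
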