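import Cfsg.Agent.F2C.Defs
import Cfsg.Agent.F2C.BasicB
import Cfsg.Agent.F2C.Dmax
import Cfsg.Agent.F2C.Zip
import Cfsg.Agent.F2C.L1
import Cfsg.Agent.F2C.L5
import Cfsg.Agent.F2C.TI
import Cfsg.Agent.F2C.L6b

set_option autoImplicit false
open Cfsg

namespace Cfsg.Agent.F2C

variable {G : Type*} [Group G] [Finite G]

/-- decomposition of an arbitrary `g` when `s` is of unique type -/
theorem Core.star_dec {p s : ℕ} {x w : G} (h : Core p x) (hs : s.Prime) (hsp : s ≠ p)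
    (hU : TypeU s x) {M : Subgroup G} (hM : Line s x M) (hw : w ∈ Ce x) (g : G) :
    ∃ I E E₀ : Subgroup G, DD p x I ∧ DD p x E ∧ DD p x E₀ ∧ I ≤ E ∧ I ≤ E₀ ∧
      (Nat.card E).Coprime s ∧ w ∈ Nm E ∧ (∃ k ∈ I, ∃ m ∈ M, g = k * m) ∧
      ∃ δ ∈ E₀, ∃ β : G, g = δ * β ∧
        IsPGroup p (Subgroup.closure ({x, β * x * β⁻¹} : Set G)) := by
  have hx1 : x ∈ Subgroup.closure ({x, g} : Set G) := Subgroup.subset_closure (by simp)
  have hg1 : g ∈ Subgroup.closure ({x, g} : Set G) := Subgroup.subset_closure (by simp)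
  obtain ⟨δ, hδ, β, hgβ, hP⟩ := h.l5 (h.two g) hx1 hg1
  have hE0 := (h.dmax_spec (h.two g) hx1).1
  generalize Dmax p x (Subgroup.closure ({x, g} : Set G)) = E₀ at hδ hE0
  obtain ⟨a1, -, -, -, a5, a6, a7, -, -, -, a11⟩ := dd_parts h.prime hs h.ord hE0
  obtain ⟨u, hu, v, hv, rfl⟩ := a11 δ hδ
  obtain ⟨I, hI, hIle, k, hk, c₀, hc₀, rfl, hH⟩ := h.l1 a5 hv
  obtain ⟨H, hH, hxH, hIH, hwH⟩ := hH w hw
  obtain ⟨-, hmax, -, hNM, -⟩ := h.line_spec hs hsp hM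
  obtain ⟨Q, hQ, hQ'⟩ := hU
  have huM : u ∈ M := by
    have h1 : Q ≤ Dq s x M := hmax.2 hQ (hQ' _ hmax.1)
    have h2 : Dq s x M ≤ M := sSup_le fun _ hR => hR.1
    exact h2 (h1 (hQ' _ a1 hu))
  have hcM : c₀ ∈ M := hNM (h.ce_le_nm hs hsp hmax hc₀.2)
  have hβ : β ∈ M := h.mem_line_of_pgroup hs hsp hP hM
  obtain ⟨-, -, -, -, b5, b6, -⟩ := dd_parts h.prime hs h.ord (h.dmax_spec hH hxH).1
  rw [← (h.dq_spec hs hsp hH hxH).2.2.2.2.2] at b5 b6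
  refine ⟨I, Dq' p s x H, E₀, hI, b5, hE0, le_sSup ⟨hIH, hI, ?_⟩, hIle.trans a7, b6,
    (norm_parts p s hw (Subgroup.le_normalizer hwH)).2.2,
    ⟨k, hk, c₀ * u * β, mul_mem (mul_mem hcM huM) hβ, by rw [hgβ]; group⟩, _, hδ, β, hgβ, hP⟩
  exact Nat.Coprime.coprime_dvd_left (Subgroup.card_dvd_of_le hIle) a6

omit [Finite G] in
theorem StarD_aux {E : Subgroup G} {e z : G} (he : e ∈ E) (hz : z ∈ Nm E) (N : ℕ) :
    (e * z) ^ N * (z ^ N)⁻¹ ∈ E := by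
  induction N with
  | zero => simp
  | succ N ih =>
    have := mul_mem he ((Subgroup.mem_normalizer_iff.1 hz _).1 ih)
    convert this using 1
    rw [pow_succ', pow_succ']; group

theorem StarD_one {E : Subgroup G} {y : G} {a : ℕ} (hy : y ∈ E) (hc : (Nat.card E).Coprime a) (ha : y ^ a = 1) :
    y = 1 := by
  rw [← orderOf_eq_one_iff]
  exact Nat.eq_one_of_dvd_coprimes hc (E.orderOf_dvd_natCard hy) (orderOf_dvd_of_pow_eq_one ha)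

theorem Core.star_key {p s r : ℕ} {x w : G} (h : Core p x) (hs : s.Prime) (hsp : s ≠ p)
    (hU : TypeU s x) {M : Subgroup G} (hM : Line s x M) (hw : w ∈ Ce x) (ho : orderOf w = s)
    (hMw : M ≤ Nm (Subgroup.zpowers w)) (hr : r.Prime) (hrs : r ≠ s) {g v : G} {n : ℕ}
    (hv : v ^ r ^ n = 1) (hg : g * w * g⁻¹ = v * w) :
    ∃ I E E₀ : Subgroup G, DD p x I ∧ DD p x E ∧ DD p x E₀ ∧ I ≤ E ∧ I ≤ E₀ ∧
      v ∈ Dq r x E ∧ (v ≠ 1 → Dq r x I ≠ ⊥) ∧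
      ∃ δ ∈ E₀, ∃ β : G, g = δ * β ∧
        IsPGroup p (Subgroup.closure ({x, β * x * β⁻¹} : Set G)) := by
  obtain ⟨I, E, E₀, hI, hE, hE0, hIE, hI0, hc, hwE, ⟨k, hk, m, hm, hkm⟩, hrest⟩ := h.star_dec hs hsp hU hM hw g
  obtain ⟨i, hi⟩ := Subgroup.mem_zpowers_iff.1
    ((Subgroup.mem_normalizer_iff.1 (hMw hm) w).1 (Subgroup.mem_zpowers w))
  have e1 : v = (k * (w ^ i * k⁻¹ * (w ^ i)⁻¹)) * w ^ (i - 1) := by
    rw [← mul_inv_eq_iff_eq_mul] at hg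
    rw [← hg, hkm, show k * m * w * (k * m)⁻¹ = k * (m * w * m⁻¹) * k⁻¹ by group, ← hi]; group
  have he : k * (w ^ i * k⁻¹ * (w ^ i)⁻¹) ∈ E :=
    mul_mem (hIE hk) ((Subgroup.mem_normalizer_iff.1 (zpow_mem hwE i) _).1 (inv_mem (hIE hk)))
  have ws : w ^ s = 1 := ho ▸ pow_orderOf_eq_one w
  have zs : (w ^ (i - 1)) ^ s = 1 := by
    rw [← zpow_natCast, ← zpow_mul, mul_comm, zpow_mul, zpow_natCast, ws, one_zpow]
  have z1 : w ^ (i - 1) = 1 := by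
    have h1 := StarD_aux he (zpow_mem hwE (i - 1)) (r ^ n)
    rw [← e1, hv, one_mul, inv_mem_iff] at h1
    have h2 := StarD_one h1 hc (by rw [← pow_mul, mul_comm, pow_mul, zs, one_pow])
    rw [← orderOf_eq_one_iff]
    exact Nat.eq_one_of_dvd_coprimes (Nat.Coprime.pow_left n ((Nat.coprime_primes hr hs).2 hrs))
      (orderOf_dvd_of_pow_eq_one h2) (orderOf_dvd_of_pow_eq_one zs)
  rw [z1, mul_one] at e1
  obtain ⟨-, -, -, b4, -, b6, -, -, b9, -⟩ := dd_parts h.prime hr h.ord hE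
  refine ⟨I, E, E₀, hI, hE, hE0, hIE, hI0, b4 v (e1 ▸ he) n hv, fun v1 hb => v1 ?_, hrest⟩
  obtain ⟨-, -, -, -, -, c6, -, -, -, -, c11⟩ := dd_parts h.prime hr h.ord hI
  obtain ⟨u, hu, t, ht, hkt⟩ := c11 k hk
  rw [hb, Subgroup.mem_bot] at hu
  rw [hu, mul_one] at hkt
  have hk' : k ∈ Dq' p r x E := b9 k (hIE hk)
    (Nat.Coprime.coprime_dvd_left (Subgroup.orderOf_dvd_natCard _ (hkt ▸ ht)) c6)
  have hn := (norm_parts p r hw hwE).2.2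
  have hv' : v ∈ Dq' p r x E := e1 ▸
    mul_mem hk' ((Subgroup.mem_normalizer_iff.1 (zpow_mem hn i) _).1 (inv_mem hk'))
  exact StarD_one hv' (Nat.Coprime.pow_right n b6) hv

end Cfsg.Agent.F2C
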