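import Cfsg.Agent.F2C.Defs
import Cfsg.Agent.F2C.BasicA
import Cfsg.Agent.F2C.BasicB
import Cfsg.Agent.F2C.Dmax
import Cfsg.Agent.F2C.Zip
import Cfsg.Agent.F2C.TI
import Cfsg.Agent.FT.BG1_6
import Cfsg.Agent.HKS.Basic
import Cfsg.Agent.Inv.SPECore
import Cfsg.Agent.FG.H93Elt

set_option autoImplicit false
open Cfsg

namespace Cfsg.Agent.F2C

open Subgroup

variable {G : Type*} [Group G] [Finite G]

omit [Finite G] in
theorem StarW_ce {a b : G} : b ∈ Ce a ↔ Commute b a := mem_centralizer_singleton_iff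

omit [Finite G] in
theorem StarW_nm {Y : Subgroup G} {g : G} (h : ∀ y ∈ Y, Commute g y) : g ∈ Nm Y :=
  centralizer_le_normalizer _ (mem_centralizer_iff.2 fun y hy => (h y hy).eq.symm)

theorem StarW_cop {p s : ℕ} (hp : p.Prime) (hs : s.Prime) (hsp : s ≠ p) {R : Subgroup G}
    (h : IsPGroup s R) : (Nat.card R).Coprime p := by
  have := Fact.mk hs
  obtain ⟨k, hk⟩ := IsPGroup.iff_card.1 h
  rw [hk]
  exact ((Nat.coprime_primes hs hp).2 hsp).pow_left k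

/-- set-up of (★): a non-full part gives `w` -/
theorem Core.star_w {p s : ℕ} {x : G} (h : Core p x) (hs : s.Prime) (hsp : s ≠ p)
    {D M : Subgroup G} (hD : Maximal (DD p x) D) (hM : Line s x M) (hne : Dq s x D ≠ ⊥)
    (hle : Dq s x D ≤ Dq s x M) (hlt : ¬ Dq s x M ≤ D) :
    ∃ w : G, orderOf w = s ∧ w ∈ Dq s x M ∧ w ∈ Ce x ∧ (∀ u ∈ Dq s x M, Commute u w) ∧
      M ≤ Nm (Subgroup.zpowers w) ∧ w ∈ Nm D ∧
      ∃ r : ℕ, r.Prime ∧ r ≠ s ∧ r ≠ p ∧ ∃ y ∈ Dq r x D, ¬ Commute w y := by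
  have := Fact.mk hs
  have hp := h.prime
  obtain ⟨xM, hS, Sne, -⟩ := h.line_spec hs hsp hM
  obtain ⟨qS, SP, eS, -⟩ := h.dq_spec hs hsp hM.1.1 xM
  obtain ⟨PM, MP, pP⟩ := oq_spec s M
  set S := Dq s x M with hSdef
  set P := Oq s M with hPdef
  have top0 : ∀ H : Subgroup G, H ≠ ⊤ → x ∈ H → D ≤ H → Dmax p x H = D := fun H h1 h2 h3 =>
    have ⟨a1, _, a3, _⟩ := h.dmax_spec h1 h2
    le_antisymm (hD.2 a1 (a3 D hD.1 h3)) (a3 D hD.1 h3)
  have zero : ∀ H : Subgroup G, H ≠ ⊤ → x ∈ H → D ≤ H → S ≤ H → False := fun H h1 h2 h3 h4 =>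
    hlt (top0 H h1 h2 h3 ▸ (h.dmax_spec h1 h2).2.2.1 S (qS.dd hp hs hsp) h4)
  obtain ⟨q1, -, q3, -, q5, q6, -, -, -, q10, q11⟩ := dd_parts hp hs h.ord hD.1
  have Nt : Nm (Dq s x D) ≠ ⊤ := h.nm_ne_top q1.1.isNilpotent hne
  have eN := top0 _ Nt q1.2.1 q3
  set Z := P ⊓ centralizer (P : Set G) with hZ
  have zP : ∀ z ∈ Z, ∀ u ∈ P, Commute u z := fun z hz u hu => mem_centralizer_iff.1 (mem_inf.1 hz).2 u hu
  have cP : ∀ m ∈ M, ∀ u ∈ P, m * u * m⁻¹ ∈ P := fun m hm u hu => (mem_normalizer_iff.1 (MP hm) u).1 hu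
  have zc : ∀ m ∈ M, ∀ z ∈ Z, m * z * m⁻¹ ∈ Z := fun m hm z hz =>
    mem_inf.2 ⟨cP m hm z (mem_inf.1 hz).1, mem_centralizer_iff.2 fun u hu => by
      have e := (zP z hz _ (cP m⁻¹ (inv_mem hm) u hu)).eq
      calc u * (m * z * m⁻¹) = m * (m⁻¹ * u * m⁻¹⁻¹ * z) * m⁻¹ := by group
        _ = _ := by rw [e]; group⟩
  have ZN : Z ≤ Nm (Dq s x D) := fun z hz => StarW_nm fun y hy => (zP z hz y (SP (hle hy))).symm
  have pZ : IsPGroup s Z := pP.to_le inf_le_left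
  have xZ : x ∈ Nm Z := mem_normalizer_fintype fun z hz => zc x xM z hz
  have ZC : Z ≤ Ce x := by
    have qY := dq_comm hp hs hsp h.ord (R := Z) ⟨pZ, xZ⟩
    have YZ := (coprime_decomp hp h.ord (StarW_cop hp hs hsp pZ) xZ).1
    have YD : ⁅Z, zpowers x⁆ ≤ D :=
      eN ▸ (h.dmax_spec Nt q1.2.1).2.2.1 _ (qY.dd hp hs hsp) (YZ.trans ZN)
    have YQ : ⁅Z, zpowers x⁆ ≤ Dq s x D := le_sSup ⟨YD, qY⟩
    have Y0 : ⁅Z, zpowers x⁆ = ⊥ := by
      by_contra h0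
      refine zero _ (h.nm_ne_top qY.1.isNilpotent h0) qY.2.1 (fun d hd => ?_)
        fun u hu => StarW_nm fun y hy => zP y (YZ hy) u (SP hu)
      obtain ⟨u, hu, v, hv, rfl⟩ := q11 d hd
      exact StarW_nm fun y hy => (q10 y (YQ hy) v hv).symm.mul_left (zP y (YZ hy) u (SP (hle hu)))
    intro z hz
    exact StarW_ce.2 (mem_centralizer_iff.1 (commutator_eq_bot_iff_le_centralizer.1 Y0 hz) x
      (mem_zpowers x)).symm
  have PS : P ≤ Nm S := eS ▸ (coprime_decomp hp h.ord (StarW_cop hp hs hsp pP) (MP xM)).2.1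
  obtain ⟨a, aS, a1, ac⟩ := HKS.nil_cen pP.isNilpotent SP Sne
    fun u hu a ha => (mem_normalizer_iff.1 (PS hu) a).1 ha
  have hd : s ∣ orderOf a := by
    have := pP.dvd_orderOf (g := ⟨a, SP aS⟩) fun e => a1 (congrArg Subtype.val e)
    rwa [orderOf_mk] at this
  have ow := orderOf_pow_orderOf_div (orderOf_pos a).ne' hd
  set w := a ^ (orderOf a / s) with hw
  have wS : w ∈ S := pow_mem aS _
  have wZ : w ∈ Z := mem_inf.2 ⟨SP wS, mem_centralizer_iff.2 fun u hu => ((ac u hu).pow_left _).eq.symm⟩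
  have w1 : w ≠ 1 := fun e => hs.one_lt.ne' (by rw [← ow, e, orderOf_one])
  have ZD : Z ≤ Nm D := fun z hz => eN ▸ (norm_parts p s (ZC hz) (le_normalizer (ZN hz))).1
  have NS : Nm S ≠ ⊤ := h.nm_ne_top qS.1.isNilpotent Sne
  refine ⟨w, ow, wS, ZC wZ, fun u hu => zP w wZ u (SP hu), fun m hm => ?_, ZD wZ, ?_⟩
  · have key : m * w * m⁻¹ ∈ zpowers w := by
      by_contra hn
      have mZ := zc m hm w wZ
      have o2 : orderOf (m * w * m⁻¹) = s := by
        rw [← ow]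
        exact (SemiconjBy.orderOf_eq m (by rw [SemiconjBy, inv_mul_cancel_right])).symm
      obtain ⟨pA, cA, nA⟩ := Inv.SE.closure_pair_noncyclic ow o2 (zP _ mZ w (SP wS)).eq hn
      have AZ : closure ({w, m * w * m⁻¹} : Set G) ≤ Z := (closure_le _).2 (by
        rintro _ (rfl | rfl)
        exacts [wZ, mZ])
      have EN : Dq' p s x D ≤ Nm S := by
        refine FT.coprime_abelian_gen_cent1 cA nA
          (fun z hz => (norm_parts p s (ZC (AZ hz)) (ZD (AZ hz))).2.2) ?_ fun z hz z1 => ?_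
        · obtain ⟨k, hk⟩ := IsPGroup.iff_card.1 pA
          rw [hk]
          exact q6.pow_right k
        have zZ := AZ hz
        have xH : x ∈ Ce z := StarW_ce.2 (StarW_ce.1 (ZC zZ)).symm
        have Ht := h.ce_ne_top z1
        have xX : x ∈ Nm (Dq' p s x D ⊓ Ce z) := mem_normalizer_fintype fun y hy =>
          mem_inf.2 ⟨(mem_normalizer_iff.1 q5.2.2.1 y).1 (mem_inf.1 hy).1,
            mul_mem (mul_mem xH (mem_inf.1 hy).2) (inv_mem xH)⟩
        have cX : (Nat.card ↥(Dq' p s x D ⊓ Ce z)).Coprime p :=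
          q5.2.1.coprime_dvd_left (card_dvd_of_le inf_le_left)
        have nX : Group.IsNilpotent ↥(Dq' p s x D ⊓ Ce z) :=
          have := q5.1
          Group.nilpotent_of_mulEquiv (subgroupOfEquivOfLe (inf_le_left (a := Dq' p s x D) (b := Ce z)))
        obtain ⟨c1, -, -, -, c5⟩ := coprime_decomp hp h.ord cX xX
        obtain ⟨b1, -, -, b4, b5, -⟩ := h.dq_spec hs hsp Ht xH
        have SH : S ≤ Dq s x (Ce z) := b4 S qS fun u hu => StarW_ce.2 (zP z zZ u (SP hu))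
        obtain ⟨d1, -, d3, -⟩ := h.dmax_spec Ht xH
        have e1 : Dmax p x (Ce z) ≤ Nm S := by
          rw [← le_antisymm (hS.2 b1 SH) SH, b5]
          exact (dd_parts hp hs h.ord d1).2.2.1
        intro r hr
        obtain ⟨d, hd, c, hc, rfl⟩ := c5 r hr
        exact mul_mem (e1 (d3 _ (dd_comm hp h.ord nX cX xX) (c1.trans inf_le_right) hd))
          (h.ce_le_nm hs hsp hS (mem_inf.1 hc).2)
      refine zero _ NS qS.2.1 (fun d hd => ?_) le_normalizer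
      obtain ⟨u, hu, v, hv, rfl⟩ := q11 d hd
      exact mul_mem (EN hv) (le_normalizer (hle hu))
    refine mem_normalizer_fintype ?_
    rintro _ ⟨k, rfl⟩
    rw [← conj_zpow]
    exact zpow_mem key k
  · by_contra hc
    refine zero _ (h.ce_ne_top w1) (StarW_ce.2 (StarW_ce.1 (ZC wZ)).symm) (fun d hd => ?_)
      fun u hu => StarW_ce.2 (zP w wZ u (SP hu))
    refine FG.H93.mem_of_forall_primePow fun y hy r hr ⟨k, hk⟩ => ?_
    have yD : y ∈ D := zpowers_le.2 hd hy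
    have yq : y ∈ Dq r x D := (dd_parts hp hr h.ord hD.1).2.2.2.1 y yD k (hk ▸ pow_orderOf_eq_one y)
    by_cases e1 : r = s
    · exact StarW_ce.2 (zP w wZ y (SP (hle (e1 ▸ yq))))
    by_cases e2 : r = p
    · have : orderOf y = 1 := Nat.eq_one_of_dvd_coprimes (hD.1.2.1.pow_right k)
        (D.orderOf_dvd_natCard yD) (by rw [hk, e2])
      rw [orderOf_eq_one_iff.1 this]
      exact one_mem _
    by_contra hn
    exact hc ⟨r, hr, e1, e2, y, yq, fun e => hn (StarW_ce.2 e.symm)⟩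

end Cfsg.Agent.F2C
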