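import Cfsg.Agent.F2C.Defs
import Cfsg.Agent.F2C.BasicA
import Cfsg.Agent.F2C.BasicB
import Cfsg.Agent.F2C.Dmax
import Cfsg.Agent.F2C.Zip
import Cfsg.Agent.F2C.TI
import Cfsg.Agent.F2C.L6b
import Cfsg.Agent.F2C.StarW
import Cfsg.Agent.F2C.StarD

set_option autoImplicit false
open Cfsg

namespace Cfsg.Agent.F2C

variable {G : Type*} [Group G] [Finite G]

omit [Finite G] in
theorem starB_mono {q : ℕ} {a : G} {H K : Subgroup G} (h : H ≤ K) : Dq q a H ≤ Dq q a K :=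
  sSup_le_sSup fun _ hQ => ⟨hQ.1.trans h, hQ.2⟩

omit [Finite G] in
theorem starB_nm {g t : G} {H : Subgroup G} (hg : g ∈ Nm H) (ht : t ∈ H) : g * t * g⁻¹ ∈ H :=
  (Subgroup.mem_normalizer_iff.1 hg t).1 ht

/-- the elements all of whose `S`-conjugates lie in `R` -/
def starB_core (S R : Subgroup G) : Subgroup G where
  carrier := {t | ∀ u ∈ S, u * t * u⁻¹ ∈ R}
  one_mem' := fun u _ => by simpa using R.one_mem
  mul_mem' := fun {a b} ha hb u hu => by
    have := R.mul_mem (ha u hu) (hb u hu)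
    rwa [show u * a * u⁻¹ * (u * b * u⁻¹) = u * (a * b) * u⁻¹ by group] at this
  inv_mem' := fun {a} ha u hu => by
    have := R.inv_mem (ha u hu)
    rwa [show (u * a * u⁻¹)⁻¹ = u * a⁻¹ * u⁻¹ by group] at this

theorem Core.star {p s : ℕ} {x : G} (h : Core p x) (hs : s.Prime) (hsp : s ≠ p)
    {D : Subgroup G} (hD : Maximal (DD p x) D) (hne : Dq s x D ≠ ⊥) :
    Maximal (DQ s x) (Dq s x D) := by
  by_contra hn
  have hp := h.prime
  obtain ⟨hDs, -⟩ := dd_parts hp hs h.ord hD.1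
  obtain ⟨S, hS, hDS⟩ := exists_max_ge (DQ s x) hDs
  have hS0 : S ≠ ⊥ := fun e => hne (le_bot_iff.1 (e ▸ hDS))
  obtain ⟨M, hM, hSM⟩ := h.exists_line hs hsp hS hS0
  obtain ⟨-, hMq, -⟩ := h.line_spec hs hsp hM
  have e1 : S ≤ Dq s x M := le_sSup ⟨Subgroup.le_normalizer.trans hSM, hS.1⟩
  have eS : Dq s x M = S := le_antisymm (hS.2 hMq.1 e1) e1
  have hlt : ¬ S ≤ D := fun hl => by
    have : S ≤ Dq s x D := le_sSup ⟨hl, hS.1⟩
    exact hn (le_antisymm this hDS ▸ hS)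
  have hU : TypeU s x := (h.type_or hs hsp).resolve_right fun hF =>
    hn (h.full_of_typeF hs hsp hF hD hne)
  obtain ⟨w, ho, hwS, hwC, hcw, hMw, hwD, r, hr, hrs, hrp, y, hy, hwy⟩ :=
    h.star_w hs hsp hD hM hne (eS ▸ hDS) (eS ▸ hlt)
  rw [eS] at hwS hcw
  obtain ⟨hR, hRD, hDR, -⟩ := dd_parts hp hr h.ord hD.1
  set R := Dq r x D
  have hwR : w ∈ Nm R := (norm_parts p r hwC hwD).2.1
  set v := y * w * y⁻¹ * w⁻¹ with hv
  have hvR : v ∈ R := by
    rw [hv, show y * w * y⁻¹ * w⁻¹ = y * (w * y⁻¹ * w⁻¹) by group]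
    exact R.mul_mem hy (starB_nm hwR (R.inv_mem hy))
  have hv1 : v ≠ 1 := fun e => hwy (by
    have : y * w * y⁻¹ * w⁻¹ * (w * y) = w * y := by rw [← hv, e, one_mul]
    rw [Commute, SemiconjBy, ← this]; group)
  obtain ⟨n, hvn⟩ := hR.1 ⟨v, hvR⟩
  have hvn' : v ^ r ^ n = 1 := congrArg Subtype.val hvn
  have hSd : DD p x S := hS.1.dd hp hs hsp
  haveI := Fact.mk hr
  haveI := Fact.mk hs
  rcases h.type_or hr hrp with ⟨Q, hQ, hQm⟩ | hF
  · set Y := starB_core S Q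
    have hvY : v ∈ Y := fun u hu => by
      obtain ⟨I, E, E₀, -, hE, -, -, -, h1, -⟩ := h.star_key hs hsp hU hM hwC ho hMw hr hrs
        (g := u * y) (v := u * v * u⁻¹) (n := n) (by rw [conj_pow, hvn']; group) (by
          have e : u⁻¹ * w = w * u⁻¹ := (hcw u hu).inv_left.eq
          calc u * y * w * (u * y)⁻¹ = u * (y * w * y⁻¹ * w⁻¹) * (w * u⁻¹) := by group
            _ = u * v * u⁻¹ * w := by rw [← e, ← hv]; group)
      exact hQm _ (dd_parts hp hr h.ord hE).1 h1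
    have hYQ : Y ≤ Q := fun t ht => by simpa using ht 1 S.one_mem
    have hYp : IsPGroup r Y := hQ.1.to_le hYQ
    have hY0 : Y ≠ ⊥ := fun e => hv1 (Subgroup.mem_bot.1 (e ▸ hvY))
    have hxY : x ∈ Nm Y := Subgroup.mem_normalizer_fintype fun t ht u hu => by
      have h1 := starB_nm (inv_mem hS.1.2.1) hu
      have h2 := starB_nm hQ.2.1 (ht _ h1)
      rwa [show x * (x⁻¹ * u * x⁻¹⁻¹ * t * (x⁻¹ * u * x⁻¹⁻¹)⁻¹) * x⁻¹ =
        u * (x * t * x⁻¹) * u⁻¹ by group] at h2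
    have hSY : S ≤ Nm Y := fun m hm => Subgroup.mem_normalizer_fintype fun t ht u hu => by
      have h2 := ht _ (S.mul_mem hu hm)
      rwa [show u * m * t * (u * m)⁻¹ = u * (m * t * m⁻¹) * u⁻¹ by group] at h2
    have hc : (Nat.card S).Coprime r := by
      obtain ⟨k, hk⟩ := IsPGroup.iff_card.1 hS.1.1
      rw [hk]
      exact Nat.Coprime.pow_left _ ((Nat.coprime_primes hs hr).2 hrs.symm)
    have hcm : Commute w v := h.comm_oq hr (h.nm_ne_top hYp.isNilpotent hY0) hxY hSd hSY hc w hwS v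
      (le_oq Subgroup.le_normalizer le_rfl hYp hvY)
    have hws : w ^ s = 1 := ho ▸ pow_orderOf_eq_one w
    have h1 : (v * w) ^ s = 1 := by
      rw [show v * w = y * w * y⁻¹ by rw [hv]; group, conj_pow, hws]; group
    rw [hcm.symm.mul_pow, hws, mul_one] at h1
    have h2 := Nat.dvd_gcd (orderOf_dvd_of_pow_eq_one h1) (orderOf_dvd_of_pow_eq_one hvn')
    rw [Nat.Coprime.gcd_eq_one (Nat.Coprime.pow_right _ ((Nat.coprime_primes hs hr).2 hrs.symm)),
      Nat.dvd_one, orderOf_eq_one_iff] at h2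
    exact hv1 h2
  · have hR0 : R ≠ ⊥ := fun e => hv1 (Subgroup.mem_bot.1 (e ▸ hvR))
    have hRm : Maximal (DQ r x) R := h.full_of_typeF hr hrp hF hD hR0
    obtain ⟨N, hN, hRN⟩ := h.exists_line hr hrp hRm hR0
    have hDN : D ≤ N := hDR.trans hRN
    have hxN : x ∈ N := (h.line_spec hr hrp hN).1
    obtain ⟨h1, -, h2, -⟩ := h.dmax_spec hN.1.1 hxN
    refine hlt (le_trans (h2 S hSd fun m hm => ?_) (hD.2 h1 (h2 D hD.1 hDN)))
    obtain ⟨I, E, E₀, -, hE, hE₀, hIE, hI₀, h3, h4, δ, hδ, β, hg, hβ⟩ :=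
      h.star_key hs hsp hU hM hwC ho hMw hr hrs (g := y * m) (v := v) (n := n) hvn' (by
        have e : m * w = w * m := (hcw m hm).eq
        calc y * m * w * (y * m)⁻¹ = y * (m * w) * m⁻¹ * y⁻¹ := by group
          _ = v * w := by rw [e, hv]; group)
    have hER : Dq r x E ≤ R := h.ti hr hrp hRm (dd_parts hp hr h.ord hE).1 fun e =>
      hv1 (Subgroup.mem_bot.1 (e ▸ Subgroup.mem_inf.2 ⟨h3, hvR⟩))
    obtain ⟨E', hE', hEE⟩ := exists_max_ge (DD p x) hE₀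
    have hI' : Dq r x I ≤ Dq r x E' := starB_mono (hI₀.trans hEE)
    obtain ⟨h5, h6, -⟩ := dd_parts hp hr h.ord hE'.1
    have h7 : Dq r x E' ≤ R := h.ti hr hrp hRm h5 fun e =>
      h4 hv1 (le_bot_iff.1 (e ▸ le_inf hI' ((starB_mono hIE).trans hER)))
    have h8 := h.full_of_typeF hr hrp hF hE' fun e => h4 hv1 (le_bot_iff.1 (e ▸ hI'))
    have h9 := (h.dmax_nm hr hrp hRm hR0).2.2 E' hE'.1 ((h8.2 hR h7).trans h6)
    have h10 : Dmax p x (Nm R) ≤ Nm R := sSup_le fun _ hX => hX.1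
    have h11 : y * m ∈ N := hg ▸ N.mul_mem (hRN (h10 (h9 (hEE hδ))))
      (h.mem_line_of_pgroup hr hrp hβ hN)
    exact (N.mul_mem_cancel_left (hDN (hRD hy))).1 h11

end Cfsg.Agent.F2C
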