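import Cfsg.Agent.F2C.Defs
import Cfsg.Agent.F2C.BasicA
import Cfsg.Agent.F2C.BasicB
import Cfsg.Agent.F2C.Dmax
import Cfsg.Agent.F2C.Zip
import Cfsg.Agent.F2C.L5
import Cfsg.Agent.F2C.TI
import Cfsg.Agent.F2C.L6b
import Cfsg.Agent.F2C.StarB

set_option autoImplicit false
open Cfsg

namespace Cfsg.Agent.F2C

variable {G : Type*} [Group G] [Finite G]

theorem FinalA_aux_elt {p : ℕ} (hp : p.Prime) {D J : Subgroup G} (hc : (Nat.card D).Coprime p) (hJ : J ≤ D)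
    (hne : J ≠ ⊥) : ∃ s : ℕ, s.Prime ∧ s ≠ p ∧ ∃ e ∈ J, e ≠ 1 ∧ e ^ s ^ 1 = 1 := by
  have h1 : Nat.card J ≠ 1 := fun e => hne (Subgroup.card_eq_one.1 e)
  obtain ⟨s, hs, hd⟩ := Nat.exists_prime_and_dvd h1
  haveI : Fact s.Prime := ⟨hs⟩
  obtain ⟨e, he⟩ := exists_prime_orderOf_dvd_card' (G := J) s hd
  have he' : orderOf (e : G) = s := by rw [Subgroup.orderOf_coe, he]
  refine ⟨s, hs, ?_, e, e.2, fun k => ?_, by rw [pow_one, ← he', pow_orderOf_eq_one]⟩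
  · rintro rfl
    exact (hp.coprime_iff_not_dvd.1 hc.symm) (hd.trans (Subgroup.card_dvd_of_le hJ))
  · rw [k, orderOf_one] at he'
    exact hs.one_lt.ne he'

theorem Core.cover {p : ℕ} {x : G} (h : Core p x) (g : G) :
    ∃ q : ℕ, q.Prime ∧ q ≠ p ∧ ∃ M, Line q x M ∧ g ∈ M := by
  have hx : x ∈ Subgroup.closure ({x, g} : Set G) := Subgroup.subset_closure (by simp)
  have hg : g ∈ Subgroup.closure ({x, g} : Set G) := Subgroup.subset_closure (by simp)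
  obtain ⟨δ, hδ, β, e, hβ⟩ := h.l5 (h.two g) hx hg
  obtain ⟨D, hD, hle⟩ := exists_max_ge (DD p x) (h.dmax_spec (h.two g) hx).1
  have hne : D ≠ ⊥ := by
    intro e0
    obtain ⟨D₁, h1, h2⟩ := h.exists_dd
    have h3 : D₁ ≤ D := hD.le_of_ge h1 (by rw [e0]; exact bot_le)
    exact h2 (le_bot_iff.1 (e0 ▸ h3))
  obtain ⟨s, hs, hsp, u, hu, u1, us⟩ := FinalA_aux_elt h.prime hD.prop.2.1 le_rfl hne
  obtain ⟨-, -, k3, k4, -⟩ := dd_parts h.prime hs h.ord hD.prop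
  have hS : Dq s x D ≠ ⊥ := fun e0 => u1 (Subgroup.mem_bot.1 (e0 ▸ k4 u hu 1 us))
  obtain ⟨M, hM, hN⟩ := h.exists_line hs hsp (h.star hs hsp hD hS) hS
  refine ⟨s, hs, hsp, M, hM, ?_⟩
  rw [e]
  exact M.mul_mem (hN (k3 (hle hδ))) (h.mem_line_of_pgroup hs hsp hβ hM)

theorem Core.inter {p q q' r : ℕ} {x : G} (h : Core p x) (hq : q.Prime) (hqp : q ≠ p)
    (hq' : q'.Prime) (hqp' : q' ≠ p) (hr : r.Prime) (hrp : r ≠ p) {M M' L : Subgroup G}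
    (hM : Line q x M) (hM' : Line q' x M') (hne : M ≠ M') (hL : Line r x L) : M ⊓ M' ≤ L := by
  obtain ⟨x1, -, -, -, m1, u1, -⟩ := h.line_spec hq hqp hM
  obtain ⟨x2, -, -, -, m2, -, -⟩ := h.line_spec hq' hqp' hM'
  have hb : Dmax p x M ⊓ Dmax p x M' = ⊥ := by
    by_contra hb
    obtain ⟨s, hs, hsp, u, hu, u0, us⟩ := FinalA_aux_elt h.prime m1.prop.2.1 inf_le_left hb
    obtain ⟨-, a2, -, a4, -⟩ := dd_parts h.prime hs h.ord m1.prop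
    obtain ⟨-, b2, -, b4, -⟩ := dd_parts h.prime hs h.ord m2.prop
    have k1 := a4 u hu.1 1 us
    have k2 := b4 u hu.2 1 us
    have n1 : Dq s x (Dmax p x M) ≠ ⊥ := fun e0 => u0 (Subgroup.mem_bot.1 (e0 ▸ k1))
    have n2 : Dq s x (Dmax p x M') ≠ ⊥ := fun e0 => u0 (Subgroup.mem_bot.1 (e0 ▸ k2))
    have s1 := h.star hs hsp m1 n1
    have s2 := h.star hs hsp m2 n2
    have l1 : Dq s x (Dmax p x M) ≤ Dq s x (Dmax p x M') :=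
      h.ti hs hsp s2 s1.prop fun e0 => u0 (Subgroup.mem_bot.1 (e0 ▸ Subgroup.mem_inf.2 ⟨k1, k2⟩))
    obtain ⟨d1, -, d3⟩ := h.dmax_nm hs hsp s1 n1
    have e1 : Dmax p x M ≤ Dmax p x M' :=
      (d3 _ m1.prop a2).trans (m2.le_of_ge d1.prop (d3 _ m2.prop (l1.trans b2)))
    exact hne (u1 M' hM'.1 (e1.trans (h.dmax_spec hM'.1.1 x2).2.1) x2).symm
  intro g hg
  have hH : M ⊓ M' ≠ ⊤ := fun e => hM.1.1 (top_le_iff.1 (e ▸ inf_le_left))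
  have hx : x ∈ M ⊓ M' := ⟨x1, x2⟩
  obtain ⟨δ, hδ, β, e, hβ⟩ := h.l5 hH hx hg
  obtain ⟨c1, c2, -⟩ := h.dmax_spec hH hx
  have h1 : δ ∈ Dmax p x M ⊓ Dmax p x M' :=
    ⟨(h.dmax_spec hM.1.1 x1).2.2.1 _ c1 (c2.trans inf_le_left) hδ,
      (h.dmax_spec hM'.1.1 x2).2.2.1 _ c1 (c2.trans inf_le_right) hδ⟩
  rw [hb, Subgroup.mem_bot] at h1
  rw [e, h1, one_mul]
  exact h.mem_line_of_pgroup hr hrp hβ hL

end Cfsg.Agent.F2C
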