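import Cfsg.Agent.F2C.Defs
import Cfsg.Agent.F2C.Dmax
import Cfsg.Agent.F2C.Zip
import Cfsg.Agent.F2C.FinalA
import Cfsg.Agent.S0042
import Cfsg.Agent.GT.FrobeniusBasic

set_option autoImplicit false
open Cfsg

namespace Cfsg.Agent.F2C

variable {G : Type*} [Group G] [Finite G]

omit [Finite G] in
theorem FinalB_aux_step (𝓛 : Set (Subgroup G)) (B : Subgroup G) (hB : ∀ M ∈ 𝓛, B ≤ M)
    (hcov : ∀ g : G, ∃ M ∈ 𝓛, g ∈ M) (hint : ∀ M ∈ 𝓛, ∀ M' ∈ 𝓛, M ≠ M' → M ⊓ M' ≤ B)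
    {b g h : G} {M₁ M₂ : Subgroup G} (h₁ : M₁ ∈ 𝓛) (h₂ : M₂ ∈ 𝓛) (hne : M₁ ≠ M₂)
    (hg : g ∈ M₁) (hh : h ∈ M₂) (hgB : g ∉ B) (hb : b ∈ B) (hgb : g * b * g⁻¹ ∈ B) :
    h * b * h⁻¹ ∈ B := by
  obtain ⟨M₃, h₃, hm⟩ := hcov (h * g⁻¹)
  have hne' : M₂ ≠ M₃ := by
    rintro rfl
    apply hgB
    apply hint M₁ h₁ M₂ h₂ hne
    refine ⟨hg, ?_⟩
    have : g = (h * g⁻¹)⁻¹ * h := by group
    rw [this]
    exact M₂.mul_mem (M₂.inv_mem hm) hh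
  apply hint M₂ h₂ M₃ h₃ hne'
  refine ⟨M₂.mul_mem (M₂.mul_mem hh (hB M₂ h₂ hb)) (M₂.inv_mem hh), ?_⟩
  have : h * b * h⁻¹ = (h * g⁻¹) * (g * b * g⁻¹) * (h * g⁻¹)⁻¹ := by group
  show h * b * h⁻¹ ∈ M₃
  rw [this]
  exact M₃.mul_mem (M₃.mul_mem hm (hB M₃ h₃ hgb)) (M₃.inv_mem hm)

open Pointwise in
theorem frob_of_cover (𝓛 : Set (Subgroup G)) (B : Subgroup G) (hB : ∀ M ∈ 𝓛, B ≤ M)
    (hcov : ∀ g : G, ∃ M ∈ 𝓛, g ∈ M) (hint : ∀ M ∈ 𝓛, ∀ M' ∈ 𝓛, M ≠ M' → M ⊓ M' ≤ B)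
    (hne : ∀ M ∈ 𝓛, M ≠ ⊤) (hcore : B.normalCore = ⊥) :
    ∀ g : G, g ∉ B → B ⊓ (MulAut.conj g • B) = ⊥ := by
  intro g hgB
  rw [eq_bot_iff]
  rintro c ⟨hcB, hc⟩
  have hc' : c ∈ MulAut.conj g • B := hc
  rw [Subgroup.mem_smul_pointwise_iff_exists] at hc'
  obtain ⟨b, hb, rfl⟩ := hc'
  have hgb : g * b * g⁻¹ ∈ B := by simpa using hcB
  obtain ⟨M₁, h₁, hg⟩ := hcov g
  obtain ⟨h₀, hh₀⟩ : ∃ h₀ : G, h₀ ∉ M₁ := by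
    by_contra hcon
    push Not at hcon
    exact hne M₁ h₁ (eq_top_iff.2 fun y _ => hcon y)
  obtain ⟨M₀, hM₀, hm₀⟩ := hcov h₀
  have hne₀ : M₁ ≠ M₀ := by
    rintro rfl
    exact hh₀ hm₀
  have hh₀B : h₀ ∉ B := fun hx => hh₀ (hB M₁ h₁ hx)
  have k₀ : h₀ * b * h₀⁻¹ ∈ B :=
    FinalB_aux_step 𝓛 B hB hcov hint h₁ hM₀ hne₀ hg hm₀ hgB hb hgb
  have hall : ∀ h : G, h * b * h⁻¹ ∈ B := by
    intro h
    obtain ⟨M₂, h₂, hh⟩ := hcov h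
    by_cases he : M₁ = M₂
    · subst he
      exact FinalB_aux_step 𝓛 B hB hcov hint hM₀ h₁ hne₀.symm hm₀ hh hh₀B hb k₀
    · exact FinalB_aux_step 𝓛 B hB hcov hint h₁ h₂ he hg hh hgB hb hgb
  have hbc : b ∈ B.normalCore := hall
  rw [hcore, Subgroup.mem_bot] at hbc
  subst hbc
  simp

theorem Core.false {p : ℕ} {x : G} (h : Core p x) : False := by
  let 𝓛 : Set (Subgroup G) := {M | ∃ q : ℕ, q.Prime ∧ q ≠ p ∧ Line q x M}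
  let B : Subgroup G := sInf 𝓛
  have hB : ∀ M ∈ 𝓛, B ≤ M := fun M hM => sInf_le hM
  have hcov : ∀ g : G, ∃ M ∈ 𝓛, g ∈ M := by
    intro g
    obtain ⟨q, hq, hqp, M, hM, hg⟩ := h.cover g
    exact ⟨M, ⟨q, hq, hqp, hM⟩, hg⟩
  have hint : ∀ M ∈ 𝓛, ∀ M' ∈ 𝓛, M ≠ M' → M ⊓ M' ≤ B := by
    rintro M ⟨q, hq, hqp, hM⟩ M' ⟨q', hq', hqp', hM'⟩ hne
    refine le_sInf ?_
    rintro L ⟨r, hr, hrp, hL⟩
    exact h.inter hq hqp hq' hqp' hr hrp hM hM' hne hL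
  have hne : ∀ M ∈ 𝓛, M ≠ ⊤ := by
    rintro M ⟨q, -, -, hM⟩
    exact hM.1.1
  have hxB : x ∈ B := by
    rw [Subgroup.mem_sInf]
    rintro M ⟨q, hq, hqp, hM⟩
    exact (h.line_spec hq hqp hM).1
  obtain ⟨M₁, hM₁, -⟩ := hcov 1
  have hBtop : B ≠ ⊤ := fun ht => hne M₁ hM₁ (eq_top_iff.2 (ht ▸ hB M₁ hM₁))
  have hcore : B.normalCore = ⊥ := h.no_normal hBtop hxB B.normalCore_le
  have hx1 : x ≠ 1 := by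
    intro hx
    have := h.ord
    rw [hx, orderOf_one] at this
    exact h.prime.one_lt.ne this
  have hBbot : B ≠ ⊥ := fun hb => hx1 (by rwa [hb, Subgroup.mem_bot] at hxB)
  have hF : IsFrobeniusComplement B :=
    ⟨hBbot, hBtop, frob_of_cover 𝓛 B hB hcov hint hne hcore⟩
  obtain ⟨N, hN, hNn, hNil⟩ := S0042.result B hF
  apply hF.ne_bot_of_coe_eq hN
  rw [eq_bot_iff, ← h.fit]
  exact le_sSup ⟨hNn, hNil⟩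

end Cfsg.Agent.F2C
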