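import Cfsg.Agent.F2C.MNa
import Cfsg.Agent.F2C.MNb
import Cfsg.Agent.F2C.RedA
import Cfsg.Agent.F2C.RedB
import Cfsg.Agent.F2C.RedC
import Cfsg.Agent.F2C.FinalB
import Cfsg.Agent.GT.Fitting
import Cfsg.Agent.HKS.Basic

/-! The induction for S3817. -/

set_option autoImplicit false
open Cfsg

namespace Cfsg.Agent.F2C

universe u

section
variable {G : Type*} [Group G] [Finite G]

theorem main_mem_of_ppow (S : Subgroup G) (x : G)
    (h : ∀ p : ℕ, p.Prime → ∀ k n : ℕ, (x ^ k) ^ p ^ n = 1 → x ^ k ∈ S) : x ∈ S := by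
  have key : ∀ m : ℕ, m ≠ 0 → ∀ k : ℕ, (x ^ k) ^ m = 1 → x ^ k ∈ S := by
    intro m
    induction m using Nat.recOnPosPrimePosCoprime with
    | prime_pow p n hp _ => intro _ k hk; exact h p hp k n hk
    | zero => intro h0; exact absurd rfl h0
    | one => intro _ k hk; rw [pow_one] at hk; rw [hk]; exact S.one_mem
    | coprime a b ha hb hab iha ihb =>
      intro _ k hk
      have h1 : x ^ (k * b) ∈ S := iha (by omega) (k * b) (by
        rw [pow_mul, ← pow_mul (x ^ k), mul_comm b a]; exact hk)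
      have h2 : x ^ (k * a) ∈ S := ihb (by omega) (k * a) (by
        rw [pow_mul, ← pow_mul (x ^ k)]; exact hk)
      rw [pow_mul] at h1 h2
      have h3 : (x ^ k) ^ ((a : ℤ) * Nat.gcdA a b + (b : ℤ) * Nat.gcdB a b) ∈ S := by
        rw [zpow_add, zpow_mul, zpow_mul, zpow_natCast, zpow_natCast]
        exact S.mul_mem (S.zpow_mem h2 _) (S.zpow_mem h1 _)
      rwa [← Nat.gcd_eq_gcd_ab, hab.gcd_eq_one, Nat.cast_one, zpow_one] at h3
  have := key (orderOf x) (orderOf_pos x).ne' 1 (by rw [pow_one, pow_orderOf_eq_one])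
  rwa [pow_one] at this

theorem Good.pow {x : G} (h : Good x) (n : ℕ) : Good (x ^ n) := by
  intro y
  refine ((h y).pow n).mono ?_ (Subgroup.subset_closure (by simp))
  rw [Subgroup.closure_le]
  rintro z (rfl | rfl)
  · exact Subgroup.pow_mem _ (Subgroup.subset_closure (by simp)) _
  · exact Subgroup.subset_closure (by simp)

theorem Good.map {G' : Type*} [Group G'] [Finite G'] (f : G →* G') (hf : Function.Surjective f)
    {x : G} (h : Good x) : Good (f x) := by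
  intro y'
  obtain ⟨y, rfl⟩ := hf y'
  have := (h y).map f
  rwa [MonoidHom.map_closure, Set.image_pair] at this

theorem Good.sub {x : G} (h : Good x) {H : Subgroup G} (hx : x ∈ H) : Good (⟨x, hx⟩ : H) := by
  intro y
  refine MN.of_map H.subtype H.subtype_injective ?_
  rw [MonoidHom.map_closure, Set.image_pair]
  exact h y

theorem main_mn_of_sub {x : G} {H : Subgroup G} (hx : x ∈ H)
    (h : MN (⊤ : Subgroup H) (⟨x, hx⟩ : H)) : MN H x := by
  have := h.map H.subtype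
  rwa [← MonoidHom.range_eq_map, Subgroup.range_subtype] at this

theorem main_eq_one {x : G} (hF : fittingSubgroup G = ⊥) (h : MN (⊤ : Subgroup G) x) : x = 1 := by
  obtain ⟨A, K, -, -, hx, hA, hK, hn, n, hl⟩ := h
  have hAn : A.Normal := Subgroup.normalizer_eq_top_iff.1 (top_le_iff.1 hA)
  have hKn : K.Normal := Subgroup.normalizer_eq_top_iff.1 (top_le_iff.1 hK)
  have hA0 : A = ⊥ := le_bot_iff.1 (hF ▸ le_sSup (show A.Normal ∧ Group.IsNilpotent A from ⟨hAn, hn⟩))
  have hKnil : Group.IsNilpotent K :=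
    (Subgroup.isNilpotent_iff_lowerCentralSeries K).2 ⟨n, le_bot_iff.1 (hA0 ▸ hl)⟩
  have hK0 : K = ⊥ :=
    le_bot_iff.1 (hF ▸ le_sSup (show K.Normal ∧ Group.IsNilpotent K from ⟨hKn, hKnil⟩))
  rwa [hK0, Subgroup.mem_bot] at hx

theorem main_min (hF : fittingSubgroup G ≠ ⊥) : ∃ N : Subgroup G, N.Normal ∧ N ≠ ⊥ ∧
    (∀ a ∈ N, ∀ b ∈ N, Commute a b) ∧ (∃ q : ℕ, q.Prime ∧ IsPGroup q N) ∧
    ∀ K : Subgroup G, K.Normal → K ≠ ⊥ → K ≤ N → K = N := by
  obtain ⟨N, ⟨hNn, hN0, hNF⟩, hmin⟩ := WellFounded.has_min (wellFounded_lt (α := Subgroup G))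
    {N : Subgroup G | N.Normal ∧ N ≠ ⊥ ∧ N ≤ fittingSubgroup G} ⟨_, inferInstance, hF, le_rfl⟩
  have hm : ∀ K : Subgroup G, K.Normal → K ≠ ⊥ → K ≤ N → K = N := fun K h1 h2 h3 => by
    by_contra hne
    exact hmin K ⟨h1, h2, h3.trans hNF⟩ (lt_of_le_of_ne h3 hne)
  have hab : ∀ a ∈ N, ∀ b ∈ N, Commute a b := by
    obtain ⟨a, haN, ha1, hc⟩ := HKS.nil_cen (U := fittingSubgroup G) (A := N)
      GT.isNilpotent_fitting hNF hN0 (fun u _ a ha => hNn.conj_mem a ha u)
    have : N ⊓ Subgroup.centralizer (N : Set G) = N := hm _ inferInstance (by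
      intro h0
      have : a ∈ N ⊓ Subgroup.centralizer (N : Set G) :=
        ⟨haN, fun b hb => (hc b (hNF hb)).eq.symm⟩
      rw [h0, Subgroup.mem_bot] at this
      exact ha1 this) inf_le_left
    intro a ha b hb
    have hb' : b ∈ N ⊓ Subgroup.centralizer (N : Set G) := by rw [this]; exact hb
    exact hb'.2 a ha
  refine ⟨N, hNn, hN0, hab, ?_, hm⟩
  have hc : Nat.card N ≠ 1 := fun h => hN0 (Subgroup.card_eq_one.1 h)
  obtain ⟨q, hq, hd⟩ := Nat.exists_prime_and_dvd hc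
  have := Fact.mk hq
  obtain ⟨a, ha⟩ := exists_prime_orderOf_dvd_card' q hd
  let K : Subgroup G :=
    { carrier := {g | g ∈ N ∧ g ^ q = 1}
      one_mem' := ⟨N.one_mem, one_pow q⟩
      mul_mem' := fun {a b} h1 h2 => ⟨N.mul_mem h1.1 h2.1, by
        rw [(hab a h1.1 b h2.1).mul_pow, h1.2, h2.2, one_mul]⟩
      inv_mem' := fun {a} h1 => ⟨N.inv_mem h1.1, by rw [inv_pow, h1.2, inv_one]⟩ }
  have hK : K = N := hm K ⟨fun n hn g => ⟨hNn.conj_mem n hn.1 g, by
      rw [conj_pow, hn.2, mul_one, mul_inv_cancel]⟩⟩ (by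
    intro h0
    have h1 : (a : G) ∈ K := ⟨a.2, by rw [← Subgroup.coe_pow, ← ha, pow_orderOf_eq_one]; rfl⟩
    rw [h0, Subgroup.mem_bot] at h1
    have : a = 1 := Subtype.ext h1
    rw [this, orderOf_one] at ha
    exact hq.one_lt.ne ha) (fun g hg => hg.1)
  refine ⟨q, hq, fun g => ⟨1, Subtype.ext ?_⟩⟩
  have : (g : G) ∈ K := by rw [hK]; exact g.2
  rw [pow_one, Subgroup.coe_pow]
  exact this.2

end

theorem main_aux (n : ℕ) : ∀ (G : Type u) [Group G] [Finite G], Nat.card G = n →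
    ∀ x : G, Good x → MN (⊤ : Subgroup G) x := by
  induction n using Nat.strong_induction_on with
  | _ n ih =>
  intro G _ _ hn x hx
  have hprop : ∀ z : G, Good z → ∀ H : Subgroup G, H ≠ ⊤ → z ∈ H → MN H z := by
    intro z hz H hH hzH
    refine main_mn_of_sub hzH (ih (Nat.card H) ?_ H rfl _ (hz.sub hzH))
    rw [← hn]
    exact lt_of_le_of_ne (Subgroup.card_le_card_group H)
      (fun h => hH (Subgroup.eq_top_of_card_eq H h))
  have hquot : ∀ z : G, Good z → ∀ (N : Subgroup G) [N.Normal], N ≠ ⊥ →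
      MN (⊤ : Subgroup (G ⧸ N)) (z : G ⧸ N) := by
    intro z hz N _ hN
    refine ih (Nat.card (G ⧸ N)) ?_ (G ⧸ N) rfl _
      (hz.map (QuotientGroup.mk' N) (QuotientGroup.mk'_surjective N))
    rw [← hn, Subgroup.card_eq_card_quotient_mul_card_subgroup N]
    have h1 : 1 < Nat.card N := (Subgroup.one_lt_card_iff_ne_bot N).2 hN
    have h2 : 0 < Nat.card (G ⧸ N) := Nat.card_pos
    nlinarith
  rw [mn_top_iff]
  refine main_mem_of_ppow _ x fun p hp k m hk => ?_
  rw [← mn_top_iff]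
  have hz : Good (x ^ k) := hx.pow k
  generalize x ^ k = z at hk hz
  by_cases hF : fittingSubgroup G = ⊥
  · by_cases hz1 : z = 1
    · rw [hz1, mn_top_iff]; exact Subgroup.one_mem _
    exfalso
    have := Fact.mk hp
    obtain ⟨j, -, hj⟩ := (Nat.dvd_prime_pow hp).1 (orderOf_dvd_of_pow_eq_one hk)
    obtain _ | j := j
    · exact hz1 (orderOf_eq_one_iff.1 (by simpa using hj))
    have ho : orderOf (z ^ p ^ j) = p := by
      rw [orderOf_pow' _ (pow_ne_zero _ hp.ne_zero), hj, Nat.gcd_eq_right (pow_dvd_pow p (Nat.le_succ j)),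
        pow_succ', Nat.mul_div_cancel _ (pow_pos hp.pos j)]
    have hg : Good (z ^ p ^ j) := hz.pow _
    refine Core.false (p := p) (x := z ^ p ^ j) ⟨hp, ho, hF, fun H hH hzH => ?_, fun y hy => ?_⟩
    · exact (hprop _ hg H hH hzH).loc hp (n := 1) (by
        rw [pow_one]; exact orderOf_dvd_iff_pow_eq_one.1 ho.dvd)
    · have := main_eq_one hF (hy ▸ hg y)
      rw [this, orderOf_one] at ho
      exact hp.one_lt.ne ho
  obtain ⟨N, hNn, hN0, hab, ⟨q, hq, hNq⟩, hm⟩ := main_min hF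
  by_cases hmin : ∀ K : Subgroup G, K.Normal → K ≠ ⊥ → N ≤ K
  swap
  · push Not at hmin
    obtain ⟨K, hKn, hK0, hK⟩ := hmin
    refine mn_of_quot2 N K ?_ (hquot z hz N hN0) (hquot z hz K hK0)
    by_contra h0
    exact hK ((hm (N ⊓ K) inferInstance h0 inf_le_left) ▸ inf_le_right)
  rcases red_a hp hq hk N hNq (hquot z hz N hN0) with h | ⟨r, hr, hrp, hrq, T, hTn, hNT, hT, ρ, hρ, -, hρx⟩
  · exact h
  have hcent := red_cent hq hr hrq N T hN0 hNq hab hmin hNT hT
  have hgen := red_gen hp hq hr hrp hrq hk N T hNq hT hcent hρ hρx (hprop z hz)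
  obtain ⟨a, -, ha⟩ := red_c hq hr hrq N T hNq hab hmin hNT hT hcent hρ hρx hgen
  exact ha ▸ hz (a * ρ)

theorem main {G : Type u} [Group G] [Finite G] {x : G} (h : Good x) : MN (⊤ : Subgroup G) x :=
  main_aux _ G rfl x h

end Cfsg.Agent.F2C
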